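import Groth.Agent.L19.Limit.FlatStage
import Groth.Agent.L19.Limit.Smooth
import Groth.Agent.L05.DescendFP
import Mathlib.AlgebraicGeometry.Morphisms.UniversallyOpen
import Mathlib.AlgebraicGeometry.PullbackCarrier
import Mathlib.CategoryTheory.Filtered.Final

/-! Coverings by finitely presented morphisms descend along cofiltered limits. -/

set_option autoImplicit false
set_option backward.isDefEq.respectTransparency.types false
set_option backward.isDefEq.respectTransparency false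
universe u

open CategoryTheory AlgebraicGeometry Limits

namespace Groth.Agent.L13.DescendCover

open Groth.L19.Limit

theorem range_of_isPullback {P X Y Z : Scheme.{u}} {g : P ⟶ X} {f : P ⟶ Y} {v : X ⟶ Z} {π : Y ⟶ Z}
    (h : IsPullback g f v π) : Set.range f = π ⁻¹' Set.range v := by
  rw [← h.isoPullback_hom_snd, Scheme.Hom.comp_base, TopCat.coe_comp, Set.range_comp,
    Set.range_eq_univ.2 h.isoPullback.hom.surjective, Set.image_univ, Scheme.Pullback.range_snd]

variable {P : MorphismProperty Scheme.{u}} [P.IsStableUnderBaseChange]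

theorem exists_descend_cover (hdesc : Descends P qcqsfp.{u})
    (hopen : ∀ {X Y : Scheme.{u}} (f : X ⟶ Y), P f → LocallyOfFinitePresentation f → UniversallyOpen f)
    {I : Type u} [SmallCategory I] [IsCofiltered I]
    (D : I ⥤ Scheme.{u}) (c : Cone D) (hc : IsLimit c)
    [∀ (i j : I) (t : i ⟶ j), IsAffineHom (D.map t)] (i₀ : I) [CompactSpace (D.obj i₀)]
    [QuasiSeparatedSpace (D.obj i₀)] {ι : Type u} (U : ι → Scheme.{u}) (u : ∀ a, U a ⟶ c.pt)
    (hP : ∀ a, P (u a)) [∀ a, LocallyOfFinitePresentation (u a)] [∀ a, QuasiCompact (u a)]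
    [∀ a, QuasiSeparated (u a)] (hcov : ∀ x : c.pt, ∃ (a : ι) (y : U a), (u a).base y = x) :
    ∃ (i : I) (n : ℕ) (V : Fin n → Scheme.{u}) (v : ∀ j, V j ⟶ D.obj i) (a : Fin n → ι)
      (e : ∀ j, U (a j) ⟶ V j),
      (∀ j, P (v j) ∧ LocallyOfFinitePresentation (v j) ∧ QuasiCompact (v j) ∧ QuasiSeparated (v j)) ∧
      (∀ x : D.obj i, ∃ (j : Fin n) (y : V j), (v j).base y = x) ∧
      ∀ j, IsPullback (e j) (u (a j)) (v j) (c.π.app i) := by
  classical
  let F := Over.forget i₀ ⋙ D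
  let c' : Cone F := c.whisker (Over.forget i₀)
  have hc' : IsLimit c' := (Functor.Initial.isLimitWhiskerEquiv (Over.forget i₀) c).symm hc
  haveI : ∀ {a b : Over i₀} (t : a ⟶ b), IsAffineHom (F.map t) := fun t =>
    ‹∀ (i j : I) (t : i ⟶ j), IsAffineHom (D.map t)› _ _ t.left
  have hcpt : ∀ b : Over i₀, CompactSpace (F.obj b) := fun b =>
    QuasiCompact.compactSpace_of_compactSpace (D.map b.hom)
  have hqs : ∀ b : Over i₀, QuasiSeparatedSpace (F.obj b) := fun b =>
    quasiSeparatedSpace_of_quasiSeparated (D.map b.hom)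
  haveI := hcpt
  haveI := hqs
  haveI : CompactSpace c.pt := Scheme.compactSpace_of_isLimit F c' hc'
  haveI hUO : ∀ b, UniversallyOpen (u b) := fun b => hopen (u b) (hP b) inferInstance
  obtain ⟨s, hs⟩ := isCompact_univ.elim_finite_subcover (fun b => Set.range (u b))
    (fun b => (u b).isOpenMap.isOpen_range) (fun x _ => by
      obtain ⟨b, y, hy⟩ := hcov x
      exact Set.mem_iUnion.2 ⟨b, y, hy⟩)
  let a : Fin s.card → ι := fun j => (s.equivFin.symm j).1
  -- one model for each member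
  have h1 : ∀ j, ∃ (k : Over i₀) (Xk : Scheme.{u}) (fk : Xk ⟶ F.obj k) (g : U (a j) ⟶ Xk),
      P fk ∧ LocallyOfFinitePresentation fk ∧ QuasiCompact fk ∧ QuasiSeparated fk ∧
      IsPullback g (u (a j)) fk (c'.π.app k) := by
    intro j
    obtain ⟨k, Xk, fk, g, h1, h2, h3, hpb⟩ := Groth.L05.DescendFP.exists_stage hc' (u (a j))
    obtain ⟨l, φ, hl⟩ := hdesc hc' fk ⟨⟨h2, h3⟩, h1⟩ ((pb_iff_of_isPullback hpb).1 (hP _))
    let g' : U (a j) ⟶ pullback (F.map φ) fk := pullback.lift (u (a j) ≫ c'.π.app l) g (by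
      rw [Category.assoc, c'.w, hpb.w])
    refine ⟨l, pullback (F.map φ) fk, pullback.fst _ _, g', hl, inferInstance, inferInstance,
      inferInstance, IsPullback.of_right ?_ (pullback.lift_fst _ _ _) (IsPullback.of_hasPullback (F.map φ) fk).flip⟩
    rw [pullback.lift_snd, c'.w]
    exact hpb
  choose k Xk fk g hPk hlfp hqc hqsk hpb using h1
  obtain ⟨k₀, t⟩ := IsCofiltered.inf_objs_exists (Finset.univ.image k)
  replace t : ∀ j, k₀ ⟶ k j := fun j => (t (by simp)).some
  -- the images cover at some stage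
  haveI hU' : ∀ j, UniversallyOpen (fk j) := fun j => hopen (fk j) (hPk j) (hlfp j)
  let W : Fin s.card → (F.obj k₀).Opens := fun j =>
    F.map (t j) ⁻¹ᵁ ⟨Set.range (fk j), (fk j).isOpenMap.isOpen_range⟩
  have hcov' : c'.π.app k₀ ⁻¹ᵁ (⨆ j, W j) = ⊤ := by
    simp_rw [W, Scheme.Hom.preimage_iSup, ← Scheme.Hom.comp_preimage, c'.w]
    refine top_le_iff.1 fun x hx => ?_
    obtain ⟨b, hb⟩ := Set.mem_iUnion.1 (hs hx)
    obtain ⟨hbs, hxb⟩ := Set.mem_iUnion.1 hb
    refine TopologicalSpace.Opens.mem_iSup.2 ⟨s.equivFin ⟨b, hbs⟩, ?_⟩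
    show x ∈ (c'.π.app (k (s.equivFin ⟨b, hbs⟩))) ⁻¹' Set.range (fk (s.equivFin ⟨b, hbs⟩))
    refine (Set.ext_iff.1 (range_of_isPullback (hpb (s.equivFin ⟨b, hbs⟩))) x).1 ?_
    show x ∈ Set.range (u (s.equivFin.symm (s.equivFin ⟨b, hbs⟩)).1)
    rw [Equiv.symm_apply_apply]
    exact hxb
  obtain ⟨m, fm, hm⟩ := exists_map_eq_top F c' hc' _ hcov'
  let V : Fin s.card → Scheme.{u} := fun j => pullback (F.map (fm ≫ t j)) (fk j)
  let v : ∀ j, V j ⟶ F.obj m := fun j => pullback.fst _ _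
  let e : ∀ j, U (a j) ⟶ V j := fun j => pullback.lift (u (a j) ≫ c'.π.app m) (g j) (by
    rw [Category.assoc, c'.w, (hpb j).w])
  refine ⟨m.left, s.card, V, v, a, e, fun j => ⟨?_, ?_, ?_, ?_⟩, fun x => ?_, fun j => ?_⟩
  · exact MorphismProperty.pullback_fst _ _ (hPk j)
  · haveI := hlfp j; exact MorphismProperty.pullback_fst _ _ (hlfp j)
  · exact MorphismProperty.pullback_fst _ _ (hqc j)
  · exact MorphismProperty.pullback_fst _ _ (hqsk j)
  · have hx : x ∈ (F.map fm ⁻¹ᵁ ⨆ j, W j) := hm ▸ trivial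
    rw [Scheme.Hom.preimage_iSup] at hx
    obtain ⟨j, hj⟩ := TopologicalSpace.Opens.mem_iSup.1 hx
    refine ⟨j, ?_⟩
    show x ∈ Set.range (v j)
    rw [Scheme.Pullback.range_fst]
    show (F.map (fm ≫ t j)).base x ∈ Set.range (fk j)
    rw [Functor.map_comp, Scheme.Hom.comp_apply]
    exact hj
  · refine IsPullback.of_right ?_ (pullback.lift_fst _ _ _) (IsPullback.of_hasPullback (F.map (fm ≫ t j)) (fk j)).flip
    rw [pullback.lift_snd]
    have := hpb j
    rwa [← c'.w (fm ≫ t j)] at this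

end Groth.Agent.L13.DescendCover
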